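import Mathlib
import Cfsg.Prelude.Def_Characters
import Cfsg.Agent.H25.CharInd
import Cfsg.Agent.H25.IndRep
import Cfsg.Agent.H26.CharOrtho
import Cfsg.Agent.H38.TIInd
import Cfsg.Agent.H38.ClassCoeff
import Cfsg.Agent.H57.VChar
import Cfsg.Agent.S0944

/-!
An involution whose centraliser is a generalised dihedral extension of an abelian TI subgroup
with an odd part of order `n = 3 ^ a`, all strongly real elements being of the obvious kinds:
no finite group has this configuration.
-/

set_option autoImplicit false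

open scoped ComplexConjugate

namespace Cfsg.Agent.H76

/-- The configuration. -/
structure GenDihedralConfig (G : Type*) [Group G] (n : ℕ) where
  C : Subgroup G
  t : G
  cardC : Nat.card C = 2 * n
  tC : t ∈ C
  tne : t ≠ 1
  tsq : t * t = 1
  comm : ∀ a ∈ C, ∀ b ∈ C, a * b = b * a
  sqC : ∀ c ∈ C, c * c = 1 → c = 1 ∨ c = t
  cardN : Nat.card (Subgroup.centralizer ({t} : Set G)) = 4 * n
  ti : ∀ x : G, ∀ c ∈ C, c * c ≠ 1 → x * c * x⁻¹ ∈ C → x * t = t * x
  inv : ∀ s : G, s * t = t * s → s ∉ C → s * s = 1 ∧ ∀ c ∈ C, s * c * s⁻¹ = c⁻¹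
  allConj : ∀ y : G, y ≠ 1 → y * y = 1 → IsConj t y
  real : ∀ z : G, t * z * t = z⁻¹ → z * z ≠ 1 → ∃ h : G, h⁻¹ * z * h ∈ C
  oddn : Odd n

namespace GenDihedralConfig

variable {G : Type*} [Group G] [Fintype G] {n : ℕ} (D : GenDihedralConfig G n)

/-- The centraliser of the involution. -/
def N : Subgroup G := Subgroup.centralizer ({D.t} : Set G)

omit [Fintype G] in
theorem mem_N {x : G} : x ∈ D.N ↔ x * D.t = D.t * x := by
  rw [N, Subgroup.mem_centralizer_singleton_iff, eq_comm]

omit [Fintype G] in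
theorem C_le_N : D.C ≤ D.N := fun c hc => D.mem_N.2 (D.comm c hc D.t D.tC)

include D in
omit [Fintype G] in
theorem npos : 0 < n := by
  obtain ⟨k, hk⟩ := D.oddn
  omega

open Classical in
theorem card_filter_C : (Finset.univ.filter fun x : G => x ∈ D.C).card = 2 * n := by
  rw [← D.cardC, Nat.card_eq_fintype_card, Fintype.card_subtype]

open Classical in
theorem card_filter_out : (Finset.univ.filter fun x : G => x ∈ D.N ∧ x ∉ D.C).card = 2 * n := by
  have h : (Finset.univ.filter fun x : G => x ∈ D.N).card = 4 * n := by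
    rw [← D.cardN, Nat.card_eq_fintype_card, Fintype.card_subtype]
    rfl
  have h2 : (Finset.univ.filter fun x : G => x ∈ D.N ∧ x ∉ D.C) =
      (Finset.univ.filter fun x : G => x ∈ D.N) \ (Finset.univ.filter fun x : G => x ∈ D.C) := by
    ext x; simp
  rw [h2, Finset.card_sdiff_of_subset (fun x hx => ?_), h, D.card_filter_C]
  · omega
  · simp only [Finset.mem_filter, Finset.mem_univ, true_and] at hx ⊢
    exact D.C_le_N hx

omit [Fintype G] in
theorem conj_sq {c x : G} (h : c * c = 1) : x⁻¹ * c * x * (x⁻¹ * c * x) = 1 := by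
  calc x⁻¹ * c * x * (x⁻¹ * c * x) = x⁻¹ * (c * c) * x := by group
    _ = 1 := by simp [h]

/-- The induced function on `C`. -/
theorem ind_apply (f : D.C → ℂ) (h0 : ∀ c : D.C, c * c = 1 → f c = 0) (c : D.C) :
    Cfsg.indFun D.C f (c : G) = f c + f c⁻¹ := by
  classical
  by_cases hc : c * c = 1
  · rw [h0 c hc, h0 c⁻¹ (by rw [← mul_inv_rev, hc, inv_one]), H25.indFun_apply, Finset.sum_eq_zero,
      mul_zero, add_zero]
    intro x _
    by_cases hm : x⁻¹ * (c : G) * x ∈ D.C
    · rw [H25.extendByZero_of_mem _ _ hm]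
      refine h0 _ (Subtype.ext ?_)
      exact conj_sq (by exact_mod_cast congrArg Subtype.val hc)
    · exact H25.extendByZero_of_notMem _ _ hm
  · have hc' : (c : G) * c ≠ 1 := fun h => hc (Subtype.ext h)
    have hcase : ∀ x : G, Cfsg.extendByZero D.C f (x⁻¹ * c * x) =
        (if x ∈ D.C then f c else 0) + (if x ∈ D.N ∧ x ∉ D.C then f c⁻¹ else 0) := by
      intro x
      by_cases hx : x ∈ D.C
      · rw [if_pos hx, if_neg (fun h => h.2 hx), add_zero]
        have e : x⁻¹ * (c : G) * x = c := by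
          rw [mul_assoc, D.comm _ c.2 _ hx, inv_mul_cancel_left]
        rw [e, H25.extendByZero_apply_coe]
      · rw [if_neg hx, zero_add]
        by_cases hN : x ∈ D.N
        · rw [if_pos ⟨hN, hx⟩]
          obtain ⟨hsq, hinv⟩ := D.inv x (D.mem_N.1 hN) hx
          have e : x⁻¹ * (c : G) * x = ((c⁻¹ : D.C) : G) := by
            have hxi : x⁻¹ = x := inv_eq_of_mul_eq_one_right hsq
            rw [hxi]
            have := hinv c c.2
            rw [hxi] at this
            simpa using this
          rw [e, H25.extendByZero_apply_coe]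
        · rw [if_neg (fun h => hN h.1)]
          refine H25.extendByZero_of_notMem _ _ fun hm => hN ?_
          have := D.ti x⁻¹ c c.2 hc' (by simpa using hm)
          rw [D.mem_N]
          have h2 := congrArg (fun g => x * g * x) this
          simp only [mul_assoc, inv_mul_cancel, mul_one, mul_inv_cancel_left] at h2
          exact h2.symm
    rw [H25.indFun_apply, Finset.sum_congr rfl fun x _ => hcase x, Finset.sum_add_distrib,
      ← Finset.sum_filter, ← Finset.sum_filter, Finset.sum_const, Finset.sum_const,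
      D.card_filter_C, D.card_filter_out, D.cardC]
    have : (n : ℂ) ≠ 0 := Nat.cast_ne_zero.mpr D.npos.ne'
    simp only [nsmul_eq_mul, Nat.cast_mul, Nat.cast_ofNat]
    field_simp

open Classical in
/-- The elements inverted by `t`. -/
noncomputable def invSet : Finset G := Finset.univ.filter fun z : G => D.t * z * D.t = z⁻¹

theorem mem_invSet {z : G} : z ∈ D.invSet ↔ D.t * z * D.t = z⁻¹ := by simp [invSet]

omit [Fintype G] in
theorem t_conj_mem {u : G} (hu : u ∈ D.N) (huC : u ∉ D.C) : IsConj D.t u :=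
  D.allConj u (fun h => huC (h ▸ D.C.one_mem)) (D.inv u (D.mem_N.1 hu) huC).1

open Classical in
theorem card_conj_mem :
    (Finset.univ.filter fun x : G => x⁻¹ * D.t * x ∈ D.N ∧ x⁻¹ * D.t * x ∉ D.C).card =
      8 * n * n := by
  set A := Finset.univ.filter fun u : G => u ∈ D.N ∧ u ∉ D.C with hA
  rw [Finset.card_eq_sum_card_fiberwise (f := fun x : G => x⁻¹ * D.t * x) (t := A)
    (fun x hx => by simpa [hA] using hx)]
  rw [Finset.sum_congr rfl (g := fun _ => 4 * n) ?_, Finset.sum_const, D.card_filter_out,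
    smul_eq_mul]
  · ring
  intro u hu
  simp only [hA, Finset.mem_filter, Finset.mem_univ, true_and] at hu
  obtain ⟨g, hg⟩ := isConj_iff.mp (D.t_conj_mem hu.1 hu.2)
  rw [← D.cardN, Nat.card_eq_fintype_card, Fintype.card_subtype]
  refine Finset.card_nbij' (fun x => x * g) (fun m => m * g⁻¹) ?_ ?_ ?_ ?_
  · intro x hx
    simp only [Finset.coe_filter, Finset.mem_filter, Finset.mem_univ, true_and,
      Set.mem_setOf_eq] at hx ⊢
    rw [Subgroup.mem_centralizer_singleton_iff]
    have h2 : x⁻¹ * D.t * x = g * D.t * g⁻¹ := hx.2.trans hg.symm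
    have h3 := congrArg (fun y => x * y * g) h2
    simp only [mul_assoc, mul_inv_cancel_left, inv_mul_cancel, mul_one] at h3
    simpa [mul_assoc, eq_comm] using h3
  · intro m hm
    simp only [Finset.coe_filter, Finset.mem_filter, Finset.mem_univ, true_and,
      Set.mem_setOf_eq] at hm ⊢
    rw [Subgroup.mem_centralizer_singleton_iff] at hm
    have hu' : (m * g⁻¹)⁻¹ * D.t * (m * g⁻¹) = u := by
      rw [← hg]
      calc (m * g⁻¹)⁻¹ * D.t * (m * g⁻¹) = g * (m⁻¹ * (D.t * m)) * g⁻¹ := by group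
        _ = g * D.t * g⁻¹ := by
            have : D.t * m = m * D.t := by first | exact hm | exact hm.symm
            rw [this, inv_mul_cancel_left]
    exact ⟨hu'.symm ▸ hu, hu'⟩
  · intro x _; simp
  · intro m _; simp

open Classical in
/-- The sum of an induced function over the elements inverted by `t`. -/
theorem sum_invSet (f : D.C → ℂ) (h0 : ∀ c : D.C, c * c = 1 → f c = 0) :
    ∑ z ∈ D.invSet, Cfsg.indFun D.C f z = 4 * (n : ℂ) * ∑ c : D.C, f c := by
  classical
  have hinner : ∀ x : G, ∑ z ∈ D.invSet, Cfsg.extendByZero D.C f (x⁻¹ * z * x) =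
      if x⁻¹ * D.t * x ∈ D.N ∧ x⁻¹ * D.t * x ∉ D.C then ∑ c : D.C, f c else 0 := by
    intro x
    set u := x⁻¹ * D.t * x with hu
    have husq : u * u = 1 := conj_sq D.tsq
    have hstep : ∑ z ∈ D.invSet, Cfsg.extendByZero D.C f (x⁻¹ * z * x) =
        ∑ w ∈ Finset.univ.filter (fun w : G => u * w * u = w⁻¹), Cfsg.extendByZero D.C f w := by
      refine Finset.sum_equiv (MulAut.conj x⁻¹).toEquiv (fun z => ?_) (fun z _ => by simp)
      simp only [mem_invSet, Finset.mem_filter, Finset.mem_univ, true_and,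
        MulEquiv.toEquiv_eq_coe, EquivLike.coe_coe]
      rw [hu, show x⁻¹ * D.t * x = MulAut.conj x⁻¹ D.t by simp, ← map_mul, ← map_mul, ← map_inv]
      exact (MulAut.conj x⁻¹).injective.eq_iff.symm
    rw [hstep]
    split_ifs with hcond
    · obtain ⟨-, hinv⟩ := D.inv u (D.mem_N.1 hcond.1) hcond.2
      rw [Finset.sum_filter]
      have : ∀ w : G, (if u * w * u = w⁻¹ then Cfsg.extendByZero D.C f w else 0) =
          Cfsg.extendByZero D.C f w * 1 := by
        intro w
        rw [mul_one]
        by_cases hw : w ∈ D.C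
        · rw [if_pos]
          have := hinv w hw
          rwa [inv_eq_of_mul_eq_one_right husq] at this
        · rw [H25.extendByZero_of_notMem _ _ hw, ite_self]
      rw [Finset.sum_congr rfl fun w _ => this w, H25.sum_extendByZero_mul D.C f (fun _ => 1)]
      simp
    · refine Finset.sum_eq_zero fun w hw => ?_
      simp only [Finset.mem_filter, Finset.mem_univ, true_and] at hw
      by_cases hwC : w ∈ D.C
      · rw [H25.extendByZero_of_mem _ _ hwC]
        by_contra hne
        have hww : w * w ≠ 1 := fun h => hne (h0 _ (Subtype.ext h))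
        have hconj : u * w * u⁻¹ ∈ D.C := by
          rw [inv_eq_of_mul_eq_one_right husq, hw]
          exact D.C.inv_mem hwC
        have huN : u ∈ D.N := D.mem_N.2 (D.ti u w hwC hww hconj)
        refine hcond ⟨huN, fun huC => hww ?_⟩
        have h1 : u * w * u = w := by rw [D.comm u huC w hwC, mul_assoc, husq, mul_one]
        rw [h1] at hw
        exact mul_eq_one_iff_eq_inv.2 hw
      · exact H25.extendByZero_of_notMem _ _ hwC
  simp only [H25.indFun_apply, ← Finset.mul_sum]
  rw [Finset.sum_comm, Finset.sum_congr rfl fun x _ => hinner x, ← Finset.sum_filter,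
    Finset.sum_const, D.card_conj_mem, D.cardC]
  have : (n : ℂ) ≠ 0 := Nat.cast_ne_zero.mpr D.npos.ne'
  simp only [nsmul_eq_mul, Nat.cast_mul, Nat.cast_ofNat]
  field_simp
  ring

open Classical in
/-- The conjugacy class of `t`. -/
noncomputable def cls : Finset G := Finset.univ.filter fun y : G => IsConj D.t y

/-- The elements inverted by `t` other than `t` are the products of `t` with its conjugates. -/
theorem sum_cls_mul {M : Type*} [AddCommMonoid M] (F : G → M) :
    ∑ z ∈ D.invSet, F z = F D.t + ∑ y ∈ D.cls, F (D.t * y) := by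
  classical
  have ht : D.t⁻¹ = D.t := inv_eq_of_mul_eq_one_right D.tsq
  have htmem : D.t ∈ D.invSet := by rw [mem_invSet, D.tsq, one_mul, ht]
  rw [← Finset.add_sum_erase _ _ htmem]
  congr 1
  refine (Finset.sum_nbij' (fun y => D.t * y) (fun z => D.t * z) ?_ ?_ ?_ ?_ (fun y _ => rfl)).symm
  · intro y hy
    rw [cls, Finset.mem_filter] at hy
    obtain ⟨g, hg⟩ := isConj_iff.mp hy.2
    have hysq : y * y = 1 := by
      rw [← hg]
      calc g * D.t * g⁻¹ * (g * D.t * g⁻¹) = g * (D.t * D.t) * g⁻¹ := by group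
        _ = 1 := by rw [D.tsq]; group
    have hy1 : y ≠ 1 := by
      intro h
      rw [← hg, conj_eq_one_iff] at h
      exact D.tne h
    rw [Finset.mem_erase, mem_invSet]
    refine ⟨fun h => hy1 (mul_left_cancel (a := D.t) (by rw [h, mul_one])), ?_⟩
    rw [mul_inv_rev, inv_eq_of_mul_eq_one_right hysq, ht, ← mul_assoc D.t D.t, D.tsq, one_mul]
  · intro z hz
    rw [Finset.mem_erase, mem_invSet] at hz
    rw [cls, Finset.mem_filter]
    refine ⟨Finset.mem_univ _, D.allConj _ (fun h => hz.1 ?_) ?_⟩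
    · rw [← inv_eq_of_mul_eq_one_right h, ht]
    · rw [← mul_assoc, hz.2, inv_mul_cancel]
  · intro y _; simp [← mul_assoc, D.tsq]
  · intro z _; simp [← mul_assoc, D.tsq]

/-- The number of involutions. -/
theorem card_cls : D.cls.card + 2 * n = 4 * n * n + 1 := by
  classical
  let f : D.C → ℂ := fun c => if c * c = 1 then 0 else 1
  have hf : ∀ c : D.C, c * c = 1 → f c = 0 := fun c h => if_pos h
  have hcount2 : (Finset.univ.filter fun c : D.C => c * c = 1).card = 2 := by
    have : (Finset.univ.filter fun c : D.C => c * c = 1) = {1, ⟨D.t, D.tC⟩} := by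
      ext c
      simp only [Finset.mem_filter, Finset.mem_univ, true_and, Finset.mem_insert,
        Finset.mem_singleton]
      constructor
      · intro h
        rcases D.sqC c c.2 (by exact_mod_cast congrArg Subtype.val h) with h1 | h1
        · exact Or.inl (Subtype.ext h1)
        · exact Or.inr (Subtype.ext h1)
      · rintro (rfl | rfl)
        · simp
        · exact Subtype.ext D.tsq
    rw [this, Finset.card_pair]
    intro h
    exact D.tne (congrArg Subtype.val h).symm
  have hnc : (Finset.univ.filter fun c : D.C => ¬ c * c = 1).card + 2 = 2 * n := by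
    rw [← D.cardC, Nat.card_eq_fintype_card, ← hcount2, add_comm,
      Finset.card_filter_add_card_filter_not, Finset.card_univ]
  have hsumf : (∑ c : D.C, f c) = ((Finset.univ.filter fun c : D.C => ¬ c * c = 1).card : ℂ) := by
    simp only [f]
    rw [Finset.natCast_card_filter]
    exact Finset.sum_congr rfl fun c _ => by by_cases h : c * c = 1 <;> simp [h]
  have hval : ∀ z ∈ D.invSet, Cfsg.indFun D.C f z = if z * z = 1 then 0 else 2 := by
    intro z hz
    rw [mem_invSet] at hz
    split_ifs with hzz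
    · rw [H25.indFun_apply, Finset.sum_eq_zero, mul_zero]
      intro x _
      by_cases hm : x⁻¹ * z * x ∈ D.C
      · rw [H25.extendByZero_of_mem _ _ hm]
        exact hf _ (Subtype.ext (conj_sq hzz))
      · exact H25.extendByZero_of_notMem _ _ hm
    · obtain ⟨h, hh⟩ := D.real z hz hzz
      have e : Cfsg.indFun D.C f z = Cfsg.indFun D.C f (h⁻¹ * z * h) := by
        have := H25.isClassFunction_indFun D.C f z h⁻¹
        simpa using this.symm
      have hne : ¬ (h⁻¹ * z * h) * (h⁻¹ * z * h) = 1 := fun h1 => hzz (by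
        calc z * z = h * ((h⁻¹ * z * h) * (h⁻¹ * z * h)) * h⁻¹ := by group
          _ = 1 := by rw [h1]; group)
      have hne' : ¬ (⟨h⁻¹ * z * h, hh⟩ : D.C) * ⟨h⁻¹ * z * h, hh⟩ = 1 := fun h1 =>
        hne (congrArg Subtype.val h1)
      have hne'' : ¬ (⟨h⁻¹ * z * h, hh⟩ : D.C)⁻¹ * (⟨h⁻¹ * z * h, hh⟩ : D.C)⁻¹ = 1 := fun h1 =>
        hne' (by rw [← mul_inv_rev] at h1; exact inv_eq_one.mp h1)
      rw [e, show h⁻¹ * z * h = ((⟨h⁻¹ * z * h, hh⟩ : D.C) : G) from rfl, D.ind_apply f hf,
        show f ⟨h⁻¹ * z * h, hh⟩ = 1 from if_neg hne',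
        show f (⟨h⁻¹ * z * h, hh⟩ : D.C)⁻¹ = 1 from if_neg hne'']
      norm_num
  have hinvol : (D.invSet.filter fun z => z * z = 1).card = 2 + 2 * n := by
    have : (D.invSet.filter fun z => z * z = 1) =
        ({1, D.t} : Finset G) ∪ (Finset.univ.filter fun x : G => x ∈ D.N ∧ x ∉ D.C) := by
      ext z
      simp only [Finset.mem_filter, mem_invSet, Finset.mem_union, Finset.mem_insert,
        Finset.mem_singleton, Finset.mem_univ, true_and]
      constructor
      · rintro ⟨hz, hzz⟩
        have hzN : z ∈ D.N := by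
          rw [D.mem_N]
          have hzi : z⁻¹ = z := inv_eq_of_mul_eq_one_right hzz
          rw [hzi] at hz
          calc z * D.t = D.t * z * D.t * D.t := by rw [hz]
            _ = D.t * z := by rw [mul_assoc, D.tsq, mul_one]
        by_cases hC : z ∈ D.C
        · exact Or.inl (D.sqC z hC hzz)
        · exact Or.inr ⟨hzN, hC⟩
      · have hfix : ∀ z : G, z * z = 1 → z * D.t = D.t * z → D.t * z * D.t = z⁻¹ ∧ z * z = 1 := by
          intro z hzz hc
          refine ⟨?_, hzz⟩
          rw [mul_assoc, hc, ← mul_assoc, D.tsq, one_mul, inv_eq_of_mul_eq_one_right hzz]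
        rintro ((rfl | rfl) | ⟨hN, hC⟩)
        · exact hfix 1 (by simp) (by simp)
        · exact hfix _ D.tsq rfl
        · exact hfix z (D.inv z (D.mem_N.1 hN) hC).1 (D.mem_N.1 hN)
    rw [this, Finset.card_union_of_disjoint, Finset.card_pair D.tne.symm, D.card_filter_out]
    rw [Finset.disjoint_left]
    intro z hz hz'
    simp only [Finset.mem_filter, Finset.mem_univ, true_and, Finset.mem_insert,
      Finset.mem_singleton] at hz hz'
    rcases hz with rfl | rfl
    · exact hz'.2 D.C.one_mem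
    · exact hz'.2 D.tC
  have h1 : D.invSet.card = 1 + D.cls.card := by
    rw [Finset.card_eq_sum_ones, D.sum_cls_mul (fun _ => (1 : ℕ)), Finset.card_eq_sum_ones]
  have h2 := Finset.card_filter_add_card_filter_not (s := D.invSet) (fun z => z * z = 1)
  have h3 : (2 : ℂ) * ((D.invSet.filter fun z => ¬ z * z = 1).card : ℂ) =
      4 * (n : ℂ) * ((Finset.univ.filter fun c : D.C => ¬ c * c = 1).card : ℂ) := by
    rw [← hsumf, ← D.sum_invSet f hf, Finset.sum_congr rfl hval, Finset.sum_ite,
      Finset.sum_const_zero, zero_add, Finset.sum_const, nsmul_eq_mul, mul_comm]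
  have h3' : 2 * (D.invSet.filter fun z => ¬ z * z = 1).card =
      4 * n * (Finset.univ.filter fun c : D.C => ¬ c * c = 1).card := by exact_mod_cast h3
  rw [hinvol, h1] at h2
  generalize (D.invSet.filter fun z => ¬ z * z = 1).card = A at h2 h3'
  generalize (Finset.univ.filter fun c : D.C => ¬ c * c = 1).card = B at hnc h3'
  nlinarith

omit [Fintype G] in
/-- Arithmetic endgame. -/
theorem endgame {n : ℕ} {j f b : ℤ} (hn : n = 3 ∨ n = 9 ∨ 27 ≤ n) (hj : j + 2 * n = 4 * n * n + 1)
    (hf : 1 ≤ f) (hb : b * b + (b + 1) * (b + 1) + 1 ≤ 4 * n)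
    (heq : j * ((f - b) * (f - b)) = 8 * (n : ℤ) * n * (f * (f + 1)))
    (hdvd : j ∣ f * (f + 1)) : False := by
  have hj0 : j ≤ f * (f + 1) := Int.le_of_dvd (by positivity) hdvd
  have hjpos : 0 < j := by rcases hn with rfl | rfl | hn <;> push_cast at * <;> nlinarith
  have hjlt : j < 4 * (n : ℤ) * n := by rcases hn with rfl | rfl | hn <;> push_cast at * <;> nlinarith
  -- `(f - b) ^ 2 > 2 f (f + 1)`
  have hgt : 2 * (f * (f + 1)) < (f - b) * (f - b) := by
    by_contra hle
    push Not at hle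
    have h1 : j * ((f - b) * (f - b)) ≤ j * (2 * (f * (f + 1))) :=
      mul_le_mul_of_nonneg_left hle hjpos.le
    have h2 : 0 < f * (f + 1) := by positivity
    nlinarith
  have hbabs : f + 1 ≤ 3 * |b| := by
    by_contra hlt
    push Not at hlt
    rcases abs_cases b with ⟨he, _⟩ | ⟨he, _⟩ <;> rw [he] at hlt <;> nlinarith
  rcases hn with rfl | rfl | hn
  · push_cast at *
    have : b ≤ 2 := by nlinarith
    have : -3 ≤ b := by nlinarith
    interval_cases b <;> simp at hbabs <;> nlinarith
  · push_cast at *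
    have : b ≤ 4 := by nlinarith
    have : -5 ≤ b := by nlinarith
    interval_cases b <;> simp at hbabs <;> nlinarith
  · have h9 : f * (f + 1) ≤ 9 * (b * b) := by
      nlinarith [abs_mul_abs_self b]
    have hn' : (27 : ℤ) ≤ n := by exact_mod_cast hn
    nlinarith [mul_nonneg (show (0:ℤ) ≤ n by positivity) (show (0:ℤ) ≤ n - 27 by linarith)]

open Classical in
/-- The configuration is impossible. -/
theorem false_of_config (D : GenDihedralConfig G n) (hn : n = 3 ∨ n = 9 ∨ 27 ≤ n)
    (hcop : Nat.Coprime D.cls.card (8 * n * n)) (μ : D.C →* ℂˣ)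
    (hμ : ∀ c : D.C, c * c = 1 → μ c = 1) (hμ2 : ∃ c : D.C, μ c ^ 2 ≠ 1) : False := by
  classical
  let lam : D.C → ℂ := fun c => (μ c : ℂ)
  let f : D.C → ℂ := (fun _ => (1 : ℂ)) - lam
  set θ := Cfsg.indFun D.C f with hθdef
  have hfa : ∀ c : D.C, f c = 1 - lam c := fun c => rfl
  have hf : ∀ c : D.C, c * c = 1 → f c = 0 := fun c h => by simp [hfa, lam, hμ c h]
  have hlamirr : Cfsg.IsIrrCharacter D.C lam := H26.isIrrCharacter_hom μ
  have hconj : ∀ c : D.C, conj (lam c) = lam c⁻¹ := fun c =>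
    (H26.inv_eq_conj_of_isCharacter (H26.isCharacter_of_irr hlamirr) c).symm
  have hθC : ∀ c : D.C, θ c = 2 - lam c - lam c⁻¹ := by
    intro c
    rw [hθdef, D.ind_apply f hf, hfa, hfa]
    ring
  have hgen : Cfsg.IsGeneralizedCharacter G θ :=
    ⟨_, _, H25.isCharacter_indFun D.C (H26.isCharacter_of_irr (H38.isIrr_one (G := D.C))),
      H25.isCharacter_indFun D.C (H26.isCharacter_of_irr hlamirr), H25.indFun_sub _ _ _⟩
  have h0 : θ 1 = 0 := by
    rw [hθdef, H25.indFun_one, hf 1 (by simp), mul_zero]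
  -- sums over `C`
  obtain ⟨c₀, hc₀⟩ := hμ2
  have hμne : ((Units.coeHom ℂ).comp μ) ≠ 1 := by
    intro h
    apply hc₀
    have : (μ c₀ : ℂ) = 1 := DFunLike.congr_fun h c₀
    rw [Units.val_eq_one] at this
    rw [this, one_pow]
  have hμ2ne : ((Units.coeHom ℂ).comp (μ * μ)) ≠ 1 := by
    intro h
    apply hc₀
    have : (((μ * μ) c₀ : ℂˣ) : ℂ) = 1 := DFunLike.congr_fun h c₀
    rw [Units.val_eq_one] at this
    rw [pow_two]
    exact this
  have s1 : ∑ c : D.C, lam c = 0 := sum_hom_units_eq_zero _ hμne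
  have s2 : ∑ c : D.C, lam c * lam c = 0 := by
    have := sum_hom_units_eq_zero _ hμ2ne
    simpa [lam] using this
  have s1' : ∑ c : D.C, lam c⁻¹ = 0 := by
    rw [← s1]
    exact Fintype.sum_equiv (Equiv.inv D.C) _ _ fun c => rfl
  have hcancel : ∀ c : D.C, lam c * lam c⁻¹ = 1 := fun c => by
    simp only [lam, ← Units.val_mul, ← map_mul, mul_inv_cancel, map_one, Units.val_one]
  have hcard : ((Fintype.card D.C : ℕ) : ℂ) = 2 * n := by
    rw [← Nat.card_eq_fintype_card, D.cardC]; push_cast; rfl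
  have hn0 : (n : ℂ) ≠ 0 := Nat.cast_ne_zero.mpr D.npos.ne'
  have hcast : ((Nat.card D.C : ℕ) : ℂ) = 2 * n := by rw [Nat.card_eq_fintype_card]; exact hcard
  have h1 : Cfsg.classInner θ (fun _ => 1) = 1 := by
    rw [hθdef, H25.classInner_indFun_left _ _ _ (fun _ _ => rfl), Cfsg.classInner, hcast]
    simp only [map_one, mul_one, hfa, Finset.sum_sub_distrib, s1, sub_zero, Finset.sum_const,
      Finset.card_univ, nsmul_eq_mul, mul_one, hcard]
    field_simp
  have h3 : Cfsg.classInner θ θ = 3 := by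
    have e : Cfsg.classInner θ θ = Cfsg.classInner f (fun c : D.C => θ c) :=
      H25.classInner_indFun_left _ _ _ (H25.isClassFunction_indFun _ _)
    rw [e, Cfsg.classInner, hcast]
    have : ∀ c : D.C, f c * conj (θ c) = 3 - 3 * lam c - lam c⁻¹ + lam c * lam c := by
      intro c
      rw [hθC, hfa, map_sub, map_sub, hconj, hconj, inv_inv, map_ofNat]
      linear_combination hcancel c
    rw [Finset.sum_congr rfl fun c _ => this c, Finset.sum_add_distrib, Finset.sum_sub_distrib,
      Finset.sum_sub_distrib, ← Finset.mul_sum, s1, s1', s2, Finset.sum_const, Finset.card_univ,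
      nsmul_eq_mul, hcard]
    field_simp
    ring
  obtain ⟨χ₁, χ₂, hne1, hne2, hne12, hdeg, hθ⟩ := H38.exists_pair_of_norm_three hgen h0 h1 h3
  have hordt : orderOf D.t = 2 := orderOf_eq_prime (by rw [pow_two, D.tsq]) D.tne
  obtain ⟨a, ha, -⟩ := Cfsg.Agent.S0944.result χ₁ D.t hordt
  obtain ⟨b, hb, -⟩ := Cfsg.Agent.S0944.result χ₂ D.t hordt
  obtain ⟨d, hdpos, hd⟩ := H57.irr_degree χ₂.2
  have hθt : θ D.t = 0 := by
    have := hθC ⟨D.t, D.tC⟩
    rw [show lam (⟨D.t, D.tC⟩ : D.C)⁻¹ = 1 from by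
        simp only [lam, map_inv, hμ ⟨D.t, D.tC⟩ (Subtype.ext D.tsq), inv_one, Units.val_one],
      show lam ⟨D.t, D.tC⟩ = 1 from by
        simp only [lam, hμ ⟨D.t, D.tC⟩ (Subtype.ext D.tsq), Units.val_one]] at this
    rw [show θ D.t = θ ((⟨D.t, D.tC⟩ : D.C) : G) from rfl, this]
    norm_num
  have hab : a = b + 1 := by
    have := congrFun hθ D.t
    rw [hθt, ha, hb] at this
    have h' : (a : ℂ) = ((b + 1 : ℤ) : ℂ) := by push_cast; linear_combination this
    exact_mod_cast h'
  -- the class sum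
  have hT : ∀ x ∈ D.cls, ∑ y ∈ D.cls, θ (x * y) = ∑ y ∈ D.cls, θ (D.t * y) := by
    intro x hx
    simp only [cls, Finset.mem_filter, Finset.mem_univ, true_and] at hx
    obtain ⟨g, rfl⟩ := isConj_iff.mp hx
    refine (Finset.sum_equiv (MulAut.conj g).toEquiv (fun y => ?_) (fun y _ => ?_)).symm
    · simp only [cls, Finset.mem_filter, Finset.mem_univ, true_and, MulEquiv.toEquiv_eq_coe,
        EquivLike.coe_coe, MulAut.conj_apply]
      exact ⟨fun h => h.trans (isConj_iff.mpr ⟨g, rfl⟩),
        fun h => h.trans (isConj_iff.mpr ⟨g, rfl⟩).symm⟩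
    · simp only [MulEquiv.toEquiv_eq_coe, EquivLike.coe_coe, MulAut.conj_apply]
      rw [show g * D.t * g⁻¹ * (g * y * g⁻¹) = g * (D.t * y) * g⁻¹ by group]
      exact (H25.isClassFunction_indFun D.C f (D.t * y) g).symm
  have hsumf : ∑ c : D.C, f c = 2 * n := by
    simp only [hfa, Finset.sum_sub_distrib, s1, Finset.sum_const, Finset.card_univ, nsmul_eq_mul,
      mul_one, hcard, sub_zero]
  have hrow : ∑ y ∈ D.cls, θ (D.t * y) = 8 * (n : ℂ) * n := by
    have h := D.sum_invSet f hf
    rw [← hθdef, D.sum_cls_mul θ, hθt, zero_add, hsumf] at h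
    rw [h]; ring
  have hj : 0 < D.cls.card := Finset.card_pos.2 ⟨D.t, Finset.mem_filter.2 ⟨Finset.mem_univ _, IsConj.refl _⟩⟩
  have hpair := H38.sum_class_pair θ (H25.isClassFunction_indFun _ _) D.t D.t
  rw [show (Finset.univ.filter (IsConj D.t)) = D.cls by simp [cls],
    Finset.sum_congr rfl fun x hx => (hT x hx).trans hrow, Finset.sum_const, nsmul_eq_mul] at hpair
  have hinner : ∀ χ : Cfsg.IrrCharacter G, Cfsg.classInner θ χ.1 =
      (if H26.oneIrr G = χ then 1 else 0) - (if χ₁ = χ then 1 else 0) +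
        (if χ₂ = χ then 1 else 0) := by
    intro χ
    have : θ = (H26.oneIrr G).1 - χ₁.1 + χ₂.1 := by rw [hθ]; rfl
    rw [this, H26.classInner_add_left, H26.classInner_sub_left, H26.classInner_irr,
      H26.classInner_irr, H26.classInner_irr]
  simp only [hinner, add_mul, sub_mul, ite_mul, one_mul, zero_mul, Finset.sum_add_distrib,
    Finset.sum_sub_distrib, Finset.sum_ite_eq, Finset.mem_univ, if_true, H26.oneIrr_val, div_one,
    mul_one] at hpair
  rw [ha, hb, hdeg, hd] at hpair
  have hd0 : (d : ℂ) ≠ 0 := Nat.cast_ne_zero.mpr hdpos.ne'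
  have hd1 : (d : ℂ) + 1 ≠ 0 := by exact_mod_cast Nat.succ_ne_zero d
  have hjc : (D.cls.card : ℂ) ≠ 0 := Nat.cast_ne_zero.mpr hj.ne'
  have heqC : (D.cls.card : ℂ) * (((d : ℂ) - b) * ((d : ℂ) - b)) =
      8 * (n : ℂ) * n * ((d : ℂ) * ((d : ℂ) + 1)) := by
    have : (a : ℂ) = (b : ℂ) + 1 := by exact_mod_cast hab
    rw [this] at hpair
    field_simp at hpair
    linear_combination -hpair
  have heq : (D.cls.card : ℤ) * (((d : ℤ) - b) * ((d : ℤ) - b)) =
      8 * (n : ℤ) * n * ((d : ℤ) * ((d : ℤ) + 1)) := by exact_mod_cast heqC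
  -- column orthogonality at `t`
  have hcol : b * b + (b + 1) * (b + 1) + 1 ≤ 4 * (n : ℤ) := by
    have hint : ∀ χ : Cfsg.IrrCharacter G, ∃ m : ℤ, χ.1 D.t = m := fun χ =>
      ⟨_, (Cfsg.Agent.S0944.result χ D.t hordt).choose_spec.1⟩
    choose m hm using hint
    have h := H26.column_orthogonality D.t D.t
    have hone : H26.classIndicator D.t D.t = 1 := if_pos (IsConj.refl _)
    rw [hone, mul_one, D.cardN] at h
    simp only [hm, map_intCast] at h
    have h' : ∑ χ : Cfsg.IrrCharacter G, m χ * m χ = 4 * (n : ℤ) := by exact_mod_cast h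
    have hm0 : m (H26.oneIrr G) = 1 := by
      have := hm (H26.oneIrr G); rw [H26.oneIrr_val] at this; exact_mod_cast this.symm
    have hma : m χ₁ = a := by have := hm χ₁; rw [ha] at this; exact_mod_cast this.symm
    have hmb : m χ₂ = b := by have := hm χ₂; rw [hb] at this; exact_mod_cast this.symm
    have hle : ∑ χ ∈ ({H26.oneIrr G, χ₁, χ₂} : Finset _), m χ * m χ ≤
        ∑ χ : Cfsg.IrrCharacter G, m χ * m χ :=
      Finset.sum_le_sum_of_subset_of_nonneg (Finset.subset_univ _) fun χ _ _ => mul_self_nonneg _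
    rw [Finset.sum_insert (by simp [hne1.symm, hne2.symm]), Finset.sum_pair hne12, hm0, hma, hmb,
      h', hab] at hle
    linarith
  have hjn : (D.cls.card : ℤ) + 2 * n = 4 * (n : ℤ) * n + 1 := by exact_mod_cast D.card_cls
  refine endgame hn hjn (by exact_mod_cast hdpos) hcol heq ?_
  have hdvd : (D.cls.card : ℤ) ∣ 8 * (n : ℤ) * n * ((d : ℤ) * ((d : ℤ) + 1)) := ⟨_, heq.symm⟩
  have hc : IsCoprime (D.cls.card : ℤ) (8 * (n : ℤ) * n) := by
    have := Nat.isCoprime_iff_coprime.2 hcop
    exact_mod_cast this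
  exact hc.dvd_of_dvd_mul_left hdvd

end GenDihedralConfig

end Cfsg.Agent.H76
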