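import Mathlib
import Cfsg.Agent.H70.AutPSL.Main
import Cfsg.Prelude.Def_KGroupFacts

/-!
The outer automorphism group of `PSL_n` over a finite field.
-/

set_option autoImplicit false

namespace Cfsg.Agent.H76.OutPSL

open Matrix
open Cfsg.Agent.H70.AutPSL

variable {n : ℕ} {F : Type*} [Field F]

local notation "PSLn" => Matrix.ProjectiveSpecialLinearGroup (Fin n) F
local notation "SLn" => Matrix.SpecialLinearGroup (Fin n) F
local notation "GLn" => GL (Fin n) F
local notation "Mn" => Matrix (Fin n) (Fin n) F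
local notation "Vn" => (Fin n → F)

theorem map_refl (g : GLn) :
    Matrix.GeneralLinearGroup.map ((RingEquiv.refl F : F ≃+* F) : F →+* F) g = g :=
  Units.ext (Matrix.ext fun _ _ => rfl)

theorem toGL_ne (s : SLn) : ((Matrix.SpecialLinearGroup.toGL s : GLn) : Mn) = (s : Mn) := rfl

/-- An element of `GL` whose determinant is an `n`-th power is a scalar times an element of `SL`. -/
theorem exists_smul_SL (g : GLn) (c : Fˣ) (h : Matrix.GeneralLinearGroup.det g = c ^ n) :
    ∃ s : SLn, (g : Mn) = (c : F) • (s : Mn) := by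
  have hd : (g : Mn).det = (c : F) ^ n := by
    have := congrArg Units.val h
    simpa using this
  refine ⟨⟨((c⁻¹ : Fˣ) : F) • (g : Mn), ?_⟩, ?_⟩
  · rw [Matrix.det_smul, Fintype.card_fin, hd, ← mul_pow, Units.inv_mul, one_pow]
  · rw [smul_smul, Units.mul_inv, one_smul]

/-- The transpose inverse of an invertible matrix. -/
def tinv (g : GLn) : GLn where
  val := ((g⁻¹ : GLn) : Mn)ᵀ
  inv := (g : Mn)ᵀ
  val_inv := by rw [← Matrix.transpose_mul, ← Units.val_mul, mul_inv_cancel, Units.val_one, Matrix.transpose_one]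
  inv_val := by rw [← Matrix.transpose_mul, ← Units.val_mul, inv_mul_cancel, Units.val_one, Matrix.transpose_one]

variable [Finite F]

theorem semiAut_one : semiAut (1 : GLn) (RingEquiv.refl F) = (1 : MulAut PSLn) := by
  refine MulEquiv.ext fun x => ?_
  obtain ⟨s, rfl⟩ := proj_surjective x
  rw [semiAut_proj]
  refine congrArg proj (Subtype.ext ?_)
  rw [semiHom_coe]
  simp

theorem semiAut_inv (g : GLn) (σ : F ≃+* F) :
    ∃ h : GLn, (semiAut g σ)⁻¹ = semiAut h σ.symm := by
  refine ⟨Matrix.GeneralLinearGroup.map (σ.symm : F →+* F) g⁻¹, inv_eq_of_mul_eq_one_right ?_⟩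
  rw [semiAut_mul, ← semiAut_one]
  congr 1
  · apply Units.ext
    show (g : Mn) * (((g⁻¹ : GLn) : Mn).map σ.symm).map σ = 1
    rw [Matrix.map_map, show ((σ : F → F) ∘ (σ.symm : F → F)) = id from funext σ.apply_symm_apply,
      Matrix.map_id, ← Units.val_mul, mul_inv_cancel, Units.val_one]
  · exact RingEquiv.ext σ.apply_symm_apply

/-- Inverse-transpose normalises the semilinear automorphisms. -/
theorem itAut_mul_semiAut (g : GLn) (σ : F ≃+* F) :
    itAut n F * semiAut g σ = semiAut (tinv g) σ * itAut n F := by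
  refine MulEquiv.ext fun x => ?_
  obtain ⟨s, rfl⟩ := proj_surjective x
  show itAut n F (semiAut g σ (proj s)) = semiAut (tinv g) σ (itAut n F (proj s))
  rw [semiAut_proj, itAut_proj, itAut_proj, semiAut_proj]
  refine congrArg proj (Subtype.ext ?_)
  rw [← map_inv, semiHom_coe]
  show ((semiHom g σ s⁻¹ : SLn) : Mn)ᵀ = _
  rw [semiHom_coe, Matrix.transpose_mul, Matrix.transpose_mul, ← mul_assoc]
  rfl

theorem conj_proj (s : SLn) :
    MulAut.conj (proj s) = semiAut (Matrix.SpecialLinearGroup.toGL s) (RingEquiv.refl F) := by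
  refine MulEquiv.ext fun x => ?_
  obtain ⟨u, rfl⟩ := proj_surjective x
  rw [MulAut.conj_apply, semiAut_proj, ← map_inv, ← map_mul, ← map_mul]
  refine congrArg proj (Subtype.ext ?_)
  rw [semiHom_coe, ← map_inv, toGL_ne, toGL_ne, Matrix.SpecialLinearGroup.coe_mul,
    Matrix.SpecialLinearGroup.coe_mul]
  congr 2

/-- A semilinear automorphism determines its field automorphism, and the matrix up to scalars. -/
theorem semiAut_eq_one (hn : 2 ≤ n) {g : GLn} {σ : F ≃+* F} (h : semiAut g σ = (1 : MulAut PSLn)) :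
    σ = RingEquiv.refl F ∧ ∃ c : F, c ≠ 0 ∧ (g : Mn) = c • (1 : Mn) := by
  classical
  have key : ∀ v : Vn, v ≠ 0 → ∃ c : F, c ≠ 0 ∧ v = c • ((g : Mn) *ᵥ fun i => σ (v i)) := by
    intro v hv
    obtain ⟨φ, hφ0, hφ⟩ := exists_perp hn v
    obtain ⟨x, hx⟩ : ∃ x : Flag n F, Par v (pt x) := ⟨mkFlag v φ hv hφ0 hφ, (par_mkFlag v φ hv hφ0 hφ).1⟩
    have h1 := pt_semiAut hn g σ x
    have e : flagMap hn (semiAut g σ) x = x := Subtype.ext (by rw [h]; rfl)
    rw [e] at h1
    obtain ⟨a, ha, hav⟩ := hx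
    obtain ⟨b, hb, hbv⟩ := h1
    refine ⟨a⁻¹ * (b * σ a), by simp [ha, hb], ?_⟩
    have e2 : (fun i => σ (pt x i)) = σ a • fun i => σ (v i) := by
      funext i; rw [hav]; simp
    rw [e2, Matrix.mulVec_smul, hav] at hbv
    calc v = a⁻¹ • (a • v) := by rw [smul_smul, inv_mul_cancel₀ ha, one_smul]
      _ = _ := by rw [hbv, smul_smul, smul_smul, mul_assoc]
  have hcol : ∀ j : Fin n, (fun i => σ ((Pi.single j (1 : F) : Vn) i)) = Pi.single j 1 := by
    intro j; funext i
    by_cases hij : i = j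
    · subst hij; simp
    · simp [Pi.single_eq_of_ne hij]
  have hdiag : ∀ i j : Fin n, i ≠ j → (g : Mn) i j = 0 := by
    intro i j hij
    obtain ⟨c, hc, e⟩ := key (Pi.single j 1) (by simp)
    rw [hcol] at e
    have := congrFun e i
    rw [Pi.single_eq_of_ne hij, Pi.smul_apply, Matrix.mulVec_single_one, smul_eq_mul] at this
    exact (mul_eq_zero.mp this.symm).resolve_left hc
  have hmv : ∀ (w : Vn) (i : Fin n), ((g : Mn) *ᵥ w) i = (g : Mn) i i * w i := by
    intro w i
    rw [Matrix.mulVec, dotProduct, Finset.sum_eq_single i]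
    · exact fun j _ hji => by rw [hdiag i j (Ne.symm hji), zero_mul]
    · simp
  have hpair : ∀ i j : Fin n, i ≠ j → ∀ a : F,
      (g : Mn) j j * σ a = (g : Mn) i i * a := by
    intro i j hij a
    obtain ⟨c, hc, e⟩ := key (Pi.single i 1 + Pi.single j a) (fun h0 => by
      have := congrFun h0 i
      simp [Pi.single_eq_of_ne hij] at this)
    have ei := congrFun e i
    have ej := congrFun e j
    simp only [Pi.smul_apply, hmv, Pi.add_apply, Pi.single_eq_same, Pi.single_eq_of_ne hij,
      Pi.single_eq_of_ne hij.symm, map_one, map_zero, add_zero, zero_add, smul_eq_mul, mul_one] at ei ej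
    linear_combination ((g : Mn) j j * σ a) * ei - (g : Mn) i i * ej
  let i₀ : Fin n := ⟨0, by omega⟩
  let j₀ : Fin n := ⟨1, by omega⟩
  have hij₀ : i₀ ≠ j₀ := by simp [i₀, j₀]
  have hg0 : (g : Mn) i₀ i₀ ≠ 0 := by
    intro h0
    obtain ⟨c, hc, e⟩ := key (Pi.single i₀ 1) (by simp)
    have := congrFun e i₀
    rw [hcol, Pi.single_eq_same, Pi.smul_apply, hmv, h0] at this
    simp at this
  have heq : ∀ j, (g : Mn) j j = (g : Mn) i₀ i₀ := by
    intro j
    by_cases hj : i₀ = j
    · rw [← hj]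
    · simpa using hpair i₀ j hj 1
  refine ⟨RingEquiv.ext fun a => ?_, (g : Mn) i₀ i₀, hg0, ?_⟩
  · have := hpair i₀ j₀ hij₀ a
    rw [heq] at this
    exact mul_left_cancel₀ hg0 this
  · ext i j
    by_cases hij : i = j
    · subst hij; simp [heq i]
    · simp [hdiag i j hij, Matrix.one_apply_ne hij]

theorem semiAut_inj (hn : 2 ≤ n) {g g' : GLn} {σ σ' : F ≃+* F}
    (h : semiAut g σ = semiAut g' σ') : σ = σ' := by
  obtain ⟨k, hk⟩ := semiAut_inv g' σ'
  have h1 : semiAut g' σ' * semiAut k σ'.symm = 1 := by rw [← hk, mul_inv_cancel]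
  rw [← h, semiAut_mul] at h1
  have := (semiAut_eq_one hn h1).1
  refine RingEquiv.ext fun a => ?_
  simpa using RingEquiv.congr_fun this (σ' a)

/-- Inverse-transpose is not semilinear when `n ≥ 3`. -/
theorem itAut_ne_semiAut (hn : 3 ≤ n) (g : GLn) (σ : F ≃+* F) : itAut n F ≠ semiAut g σ := by
  intro h
  have hn2 : 2 ≤ n := by omega
  obtain ⟨φ, hφ0, hφ⟩ := exists_perp (F := F) hn2 (Pi.single ⟨0, by omega⟩ 1)
  let x := mkFlag (Pi.single ⟨0, by omega⟩ 1) φ (by simp) hφ0 hφ
  obtain ⟨z, hzP, hzH⟩ := exists_parP_not_parH hn x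
  apply hzH
  have hmap : ∀ y : Flag n F, Par (hp y) ((g : Mn) *ᵥ fun i => σ (pt y i)) := by
    intro y
    have h1 := (pt_itAut hn2 y).1
    have h2 := pt_semiAut hn2 g σ y
    have e : flagMap hn2 (itAut n F) y = flagMap hn2 (semiAut g σ) y := by rw [h]
    rw [e] at h1
    exact h1.trans h2.symm
  obtain ⟨c, hc, hcz⟩ := hzP
  refine (hmap x).trans (Par.trans ⟨σ c, by simp [hc], ?_⟩ (hmap z).symm)
  rw [← Matrix.mulVec_smul]
  congr 1
  funext i
  simp [hcz]

/-- The inverse-transpose automorphism to a power in `ℤ/2`. -/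
noncomputable def itPow (ε : Multiplicative (ZMod 2)) : MulAut PSLn :=
  if ε = 1 then 1 else itAut n F

theorem two_cases (ε : Multiplicative (ZMod 2)) : ε = 1 ∨ ε = Multiplicative.ofAdd 1 := by
  revert ε; decide

theorem itPow_one : itPow (1 : Multiplicative (ZMod 2)) = (1 : MulAut PSLn) := if_pos rfl

theorem itPow_gen : itPow (Multiplicative.ofAdd (1 : ZMod 2)) = itAut n F := if_neg (by decide)

theorem decomp_mul {g g' : GLn} {σ σ' : F ≃+* F} {ε ε' : Multiplicative (ZMod 2)} :
    ∃ k : GLn, (semiAut g σ * itPow ε) * (semiAut g' σ' * itPow ε') =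
      semiAut k (σ'.trans σ) * itPow (ε * ε') := by
  rcases two_cases ε with rfl | rfl <;> rcases two_cases ε' with rfl | rfl
  · exact ⟨g * Matrix.GeneralLinearGroup.map (σ : F →+* F) g', by
      simp [itPow_one, semiAut_mul]⟩
  · exact ⟨g * Matrix.GeneralLinearGroup.map (σ : F →+* F) g', by
      simp [itPow_one, itPow_gen, ← mul_assoc, semiAut_mul]⟩
  · exact ⟨g * Matrix.GeneralLinearGroup.map (σ : F →+* F) (tinv g'), by
      rw [itPow_gen, itPow_one, mul_one, mul_one, mul_assoc, itAut_mul_semiAut, itPow_gen,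
        ← mul_assoc, semiAut_mul]⟩
  · exact ⟨g * Matrix.GeneralLinearGroup.map (σ : F →+* F) (tinv g'), by
      rw [show (Multiplicative.ofAdd (1 : ZMod 2)) * Multiplicative.ofAdd 1 = 1 from by decide,
        itPow_gen, itPow_one, mul_one, mul_assoc, ← mul_assoc (itAut n F), itAut_mul_semiAut,
        mul_assoc _ (itAut n F), itAut_mul_self, mul_one, semiAut_mul]⟩

theorem decomp_unique (hn : 3 ≤ n) {g g' : GLn} {σ σ' : F ≃+* F}
    {ε ε' : Multiplicative (ZMod 2)}
    (h : semiAut g σ * itPow ε = semiAut g' σ' * itPow ε') : σ = σ' ∧ ε = ε' := by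
  rcases two_cases ε with rfl | rfl <;> rcases two_cases ε' with rfl | rfl <;>
    simp only [itPow_one, itPow_gen, mul_one, mul_left_inj] at h
  · exact ⟨semiAut_inj (by omega) h, rfl⟩
  · obtain ⟨k, hk⟩ := semiAut_inv g' σ'
    exfalso
    have : itAut n F = semiAut k σ'.symm * semiAut g σ := by rw [← hk, h, inv_mul_cancel_left]
    rw [semiAut_mul] at this
    exact itAut_ne_semiAut hn _ _ this
  · obtain ⟨k, hk⟩ := semiAut_inv g σ
    exfalso
    have : itAut n F = semiAut k σ.symm * semiAut g' σ' := by rw [← hk, ← h, inv_mul_cancel_left]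
    rw [semiAut_mul] at this
    exact itAut_ne_semiAut hn _ _ this
  · exact ⟨semiAut_inj (by omega) h, rfl⟩

/-- The ring automorphisms of a field with `p ^ f` elements form a cyclic group of order `f`. -/
theorem exists_ringAut_equiv {p f : ℕ} [Fact p.Prime] (hf : 1 ≤ f) (hF : Nat.card F = p ^ f) :
    Nonempty (RingAut F ≃* Multiplicative (ZMod f)) := by
  classical
  obtain ⟨q, hq⟩ := CharP.exists F
  have hqp : Fact q.Prime := ⟨CharP.char_is_prime F q⟩
  have : Fintype F := Fintype.ofFinite F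
  have hpq : q = p := by
    obtain ⟨k, -, hk⟩ := FiniteField.card F q
    rw [← Nat.card_eq_fintype_card, hF] at hk
    have h1 : q ∣ p ^ f := hk ▸ dvd_pow_self q k.ne_zero
    exact (Nat.prime_dvd_prime_iff_eq hqp.out (Fact.out)).mp (hqp.out.dvd_of_dvd_pow h1)
  subst hpq
  let : Algebra (ZMod q) F := ZMod.algebra F q
  let e : RingAut F ≃* (F ≃ₐ[ZMod q] F) :=
    { toFun := fun σ => AlgEquiv.ofRingEquiv (f := σ) fun x =>
        RingHom.congr_fun (RingHom.ext_zmod ((σ : F →+* F).comp (algebraMap (ZMod q) F))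
          (algebraMap (ZMod q) F)) x
      invFun := fun τ => τ.toRingEquiv
      left_inv := fun σ => RingEquiv.ext fun x => rfl
      right_inv := fun τ => AlgEquiv.ext fun x => rfl
      map_mul' := fun σ τ => AlgEquiv.ext fun x => rfl }
  have hrank : Module.finrank (ZMod q) F = f := by
    have := Module.natCard_eq_pow_finrank (K := ZMod q) (V := F)
    rw [hF, Nat.card_zmod] at this
    exact (Nat.pow_right_injective hqp.out.two_le this).symm
  have hcard : Nat.card (F ≃ₐ[ZMod q] F) = f := by rw [IsGalois.card_aut_eq_finrank, hrank]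
  have : NeZero f := ⟨by omega⟩
  exact ⟨e.trans (mulEquivOfCyclicCardEq (by rw [hcard, Nat.card_congr Multiplicative.toAdd, Nat.card_zmod]))⟩

/-- The diagonal part of the outer automorphism group. -/
noncomputable def diag : GLn →* Cfsg.Out PSLn where
  toFun g := QuotientGroup.mk (semiAut g (RingEquiv.refl F))
  map_one' := by rw [semiAut_one]; rfl
  map_mul' g h := by
    rw [← QuotientGroup.mk_mul, semiAut_mul, map_refl]
    rfl

theorem diag_ker (hn : 2 ≤ n) :
    (diag : GLn →* Cfsg.Out PSLn).ker =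
      ((QuotientGroup.mk' (powMonoidHom n : Fˣ →* Fˣ).range).comp
        Matrix.GeneralLinearGroup.det).ker := by
  ext g
  rw [MonoidHom.mem_ker, MonoidHom.mem_ker]
  show QuotientGroup.mk _ = (1 : Cfsg.Out PSLn) ↔ _
  rw [QuotientGroup.eq_one_iff]
  show _ ↔ QuotientGroup.mk (Matrix.GeneralLinearGroup.det g) = (1 : Fˣ ⧸ (powMonoidHom n : Fˣ →* Fˣ).range)
  rw [QuotientGroup.eq_one_iff]
  constructor
  · rintro ⟨x, hx⟩
    obtain ⟨s, rfl⟩ := proj_surjective x
    rw [conj_proj] at hx
    have h1 : semiAut ((Matrix.SpecialLinearGroup.toGL s)⁻¹ * g) (RingEquiv.refl F) =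
        (1 : MulAut PSLn) := by
      have h2 : semiAut (Matrix.SpecialLinearGroup.toGL s)⁻¹ (RingEquiv.refl F) *
          semiAut (Matrix.SpecialLinearGroup.toGL s) (RingEquiv.refl F) = (1 : MulAut PSLn) := by
        rw [semiAut_mul, map_refl, inv_mul_cancel]
        exact semiAut_one
      rw [hx, semiAut_mul, map_refl] at h2
      exact h2
    obtain ⟨-, c, hc, e⟩ := semiAut_eq_one hn h1
    refine ⟨Units.mk0 c hc, Units.ext ?_⟩
    have h3 := congrArg Matrix.det e
    rw [Matrix.det_smul, Matrix.det_one, mul_one, Fintype.card_fin, Units.val_mul, Matrix.det_mul,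
      ← map_inv, toGL_ne, Matrix.SpecialLinearGroup.det_coe, one_mul] at h3
    simp [← h3]
  · rintro ⟨c, hc⟩
    obtain ⟨s, hs⟩ := exists_smul_SL g c hc.symm
    refine ⟨proj s, MulEquiv.ext fun x => ?_⟩
    obtain ⟨u, rfl⟩ := proj_surjective x
    rw [conj_proj, semiAut_proj, semiAut_proj]
    refine congrArg proj (Subtype.ext ?_)
    rw [semiHom_coe, semiHom_coe, ← map_inv, toGL_ne, toGL_ne]
    have hinv : ((g⁻¹ : GLn) : Mn) = ((c⁻¹ : Fˣ) : F) • ((s⁻¹ : SLn) : Mn) := by
      refine Units.inv_eq_of_mul_eq_one_right ?_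
      rw [hs, smul_mul_smul_comm, Units.mul_inv, one_smul, ← Matrix.SpecialLinearGroup.coe_mul,
        mul_inv_cancel, Matrix.SpecialLinearGroup.coe_one]
    rw [hinv, hs, smul_mul_assoc, smul_mul_smul_comm, Units.mul_inv, one_smul]

theorem diag_range (hn : 2 ≤ n) : IsCyclic (diag : GLn →* Cfsg.Out PSLn).range ∧
    Nat.card (diag : GLn →* Cfsg.Out PSLn).range = Nat.gcd n (Nat.card F - 1) := by
  classical
  have : Fintype F := Fintype.ofFinite F
  set R := (powMonoidHom n : Fˣ →* Fˣ).range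
  set q := (QuotientGroup.mk' R).comp (Matrix.GeneralLinearGroup.det : GLn →* Fˣ)
  have hsurj : Function.Surjective q := by
    intro y
    obtain ⟨u, rfl⟩ := QuotientGroup.mk'_surjective R y
    have hd : (Matrix.diagonal (Function.update (1 : Fin n → F) ⟨0, by omega⟩ (u : F))).det = (u : F) := by
      rw [Matrix.det_diagonal, Finset.prod_update_of_mem (Finset.mem_univ _)]
      simp
    refine ⟨Matrix.GeneralLinearGroup.mkOfDetNeZero
      (Matrix.diagonal (Function.update (1 : Fin n → F) ⟨0, by omega⟩ (u : F))) (by rw [hd]; exact u.ne_zero), ?_⟩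
    exact congrArg (QuotientGroup.mk' R) (Units.ext hd)
  let e : (diag : GLn →* Cfsg.Out PSLn).range ≃* (Fˣ ⧸ R) :=
    (QuotientGroup.quotientKerEquivRange diag).symm.trans
      ((QuotientGroup.quotientMulEquivOfEq (diag_ker hn)).trans
        (QuotientGroup.quotientKerEquivOfSurjective q hsurj))
  refine ⟨e.isCyclic.mpr inferInstance, ?_⟩
  rw [Nat.card_congr e.toEquiv, ← Subgroup.index_eq_card, IsCyclic.index_powMonoidHom_range,
    Nat.card_units, Nat.gcd_comm]

/-- The structure of `Out PSL_n`, `n ≥ 3`. -/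
theorem out_structure {p f : ℕ} [Fact p.Prime] (hf : 1 ≤ f) (hF : Nat.card F = p ^ f) (hn : 3 ≤ n) :
    ∃ φ : Cfsg.Out PSLn →* Multiplicative (ZMod f × ZMod 2),
      Function.Surjective φ ∧ IsCyclic φ.ker ∧ Nat.card φ.ker = Nat.gcd n (p ^ f - 1) := by
  classical
  have hex : ∀ β : MulAut PSLn, ∃ (d : RingAut F × Multiplicative (ZMod 2)) (g : GLn),
      β = semiAut g d.1 * itPow d.2 := by
    intro β
    obtain ⟨g, σ, h | ⟨-, h⟩⟩ := exists_semiAut (show 2 ≤ n by omega) β
    · exact ⟨(σ, 1), g, by rw [itPow_one, mul_one, h]⟩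
    · exact ⟨(σ, Multiplicative.ofAdd 1), g, by rw [itPow_gen, h]⟩
  choose d g hd using hex
  have huniq : ∀ β k (σ : RingAut F) ε, β = semiAut k σ * itPow ε → d β = (σ, ε) := by
    intro β k σ ε h
    obtain ⟨h1, h2⟩ := decomp_unique hn ((hd β).symm.trans h)
    exact Prod.ext h1 h2
  have hsemi : ∀ k σ, d (semiAut k σ) = (σ, 1) := fun k σ =>
    huniq _ k σ 1 (by rw [itPow_one, mul_one])
  let ψ : MulAut PSLn →* RingAut F × Multiplicative (ZMod 2) := MonoidHom.mk' d fun β γ => by
    obtain ⟨k, hk⟩ := decomp_mul (g := g β) (g' := g γ) (σ := (d β).1) (σ' := (d γ).1)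
      (ε := (d β).2) (ε' := (d γ).2)
    rw [← hd, ← hd] at hk
    exact huniq _ k _ _ hk
  obtain ⟨e⟩ := exists_ringAut_equiv (F := F) hf hF
  have hinn : Cfsg.Inn PSLn ≤ ψ.ker := by
    rintro _ ⟨x, rfl⟩
    obtain ⟨s, rfl⟩ := proj_surjective x
    rw [MonoidHom.mem_ker, conj_proj]
    exact hsemi _ _
  let E : RingAut F × Multiplicative (ZMod 2) ≃* Multiplicative (ZMod f × ZMod 2) :=
    (MulEquiv.prodCongr e (MulEquiv.refl _)).trans (MulEquiv.prodMultiplicative (ZMod f) (ZMod 2)).symm
  let φ := E.toMonoidHom.comp (QuotientGroup.lift (Cfsg.Inn PSLn) ψ hinn)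
  refine ⟨φ, ?_, ?_⟩
  · intro y
    refine ⟨QuotientGroup.mk (semiAut 1 (E.symm y).1 * itPow (E.symm y).2), ?_⟩
    show E (d _) = y
    rw [huniq _ 1 _ _ rfl, Prod.mk.eta, MulEquiv.apply_symm_apply]
  · have hker : φ.ker = (diag : GLn →* Cfsg.Out PSLn).range := by
      ext x
      induction x using QuotientGroup.induction_on with
      | H β =>
        rw [MonoidHom.mem_ker]
        show E (d β) = 1 ↔ _
        rw [MulEquiv.map_eq_one_iff]
        constructor
        · intro h
          have := hd β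
          rw [h] at this
          refine ⟨g β, ?_⟩
          show QuotientGroup.mk (semiAut (g β) (RingEquiv.refl F)) = QuotientGroup.mk β
          conv_rhs => rw [this, Prod.snd_one, itPow_one, mul_one, Prod.fst_one]
          rfl
        · rintro ⟨k, hk⟩
          have : (semiAut k (RingEquiv.refl F))⁻¹ * β ∈ ψ.ker := hinn (QuotientGroup.eq.mp hk)
          rw [MonoidHom.mem_ker, map_mul, map_inv] at this
          have h2 : ψ (semiAut k (RingEquiv.refl F)) = 1 := hsemi _ _
          rw [h2, inv_one, one_mul] at this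
          exact this
    rw [hker, ← hF]
    exact diag_range (by omega)

/-- The structure of `Out PSL_2`. -/
theorem out_structure_two {p f : ℕ} [Fact p.Prime] (hf : 1 ≤ f) (hF : Nat.card F = p ^ f) :
    ∃ φ : Cfsg.Out (Matrix.ProjectiveSpecialLinearGroup (Fin 2) F) →* Multiplicative (ZMod f),
      Function.Surjective φ ∧ IsCyclic φ.ker ∧ Nat.card φ.ker = Nat.gcd 2 (p ^ f - 1) := by
  classical
  have hex : ∀ β : MulAut (Matrix.ProjectiveSpecialLinearGroup (Fin 2) F),
      ∃ (σ : RingAut F) (g : GL (Fin 2) F), β = semiAut g σ := by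
    intro β
    obtain ⟨g, σ, h | ⟨h3, -⟩⟩ := exists_semiAut (le_refl 2) β
    · exact ⟨σ, g, h⟩
    · omega
  choose d g hd using hex
  have hsemi : ∀ k σ, d (semiAut k σ) = σ := fun k σ => (semiAut_inj le_rfl (hd (semiAut k σ))).symm
  let ψ : MulAut (Matrix.ProjectiveSpecialLinearGroup (Fin 2) F) →* RingAut F :=
    MonoidHom.mk' d fun β γ => by
      conv_lhs => rw [hd β, hd γ, semiAut_mul]
      exact hsemi _ _
  obtain ⟨e⟩ := exists_ringAut_equiv (F := F) hf hF
  have hinn : Cfsg.Inn _ ≤ ψ.ker := by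
    rintro _ ⟨x, rfl⟩
    obtain ⟨s, rfl⟩ := proj_surjective x
    rw [MonoidHom.mem_ker, conj_proj]
    exact hsemi _ _
  let φ := e.toMonoidHom.comp (QuotientGroup.lift (Cfsg.Inn _) ψ hinn)
  refine ⟨φ, ?_, ?_⟩
  · intro y
    refine ⟨QuotientGroup.mk (semiAut 1 (e.symm y)), ?_⟩
    show e (d _) = y
    rw [hsemi, MulEquiv.apply_symm_apply]
  · have hker : φ.ker = (diag : GL (Fin 2) F →* _).range := by
      ext x
      induction x using QuotientGroup.induction_on with
      | H β =>
        rw [MonoidHom.mem_ker]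
        show e (d β) = 1 ↔ _
        rw [MulEquiv.map_eq_one_iff]
        constructor
        · intro h
          refine ⟨g β, ?_⟩
          show QuotientGroup.mk (semiAut (g β) (RingEquiv.refl F)) = QuotientGroup.mk β
          conv_rhs => rw [hd β, h]
          rfl
        · rintro ⟨k, hk⟩
          have : (semiAut k (RingEquiv.refl F))⁻¹ * β ∈ ψ.ker := hinn (QuotientGroup.eq.mp hk)
          rw [MonoidHom.mem_ker, map_mul, map_inv] at this
          have h2 : ψ (semiAut k (RingEquiv.refl F)) = 1 := hsemi _ _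
          rw [h2, inv_one, one_mul] at this
          exact this
    rw [hker, ← hF]
    exact diag_range le_rfl

end Cfsg.Agent.H76.OutPSL
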