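import Mathlib
import Cfsg.Agent.H24.PGroupBasic
import Cfsg.Agent.H21.Complement

/-!
Finite 2-groups with a unique involution that are not abelian have a cyclic subgroup of index 2
inverted by every element outside, whose squares are the involution.
-/

set_option autoImplicit false

namespace Cfsg.Agent.H76

/-- Integer lemma behind the classification: an exponent `u` with `u^2 ≡ 1` and `s(u-1) ≡ 0`
modulo `2^m` is `±1`, or the element can be shifted to square to the identity. -/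
theorem unit_square_one_cases {m : ℕ} (hm : 2 ≤ m) (u s : ℤ) (hu : (2 : ℤ) ^ m ∣ u ^ 2 - 1)
    (hs : (2 : ℤ) ^ m ∣ s * (u - 1)) :
    (2 : ℤ) ^ m ∣ u - 1 ∨ (2 : ℤ) ^ m ∣ u + 1 ∨ ∃ a : ℤ, (2 : ℤ) ^ m ∣ s + a * (u + 1) := by
  obtain ⟨n, rfl⟩ : ∃ n, m = n + 2 := ⟨m - 2, by omega⟩
  have hsplit : (2 : ℤ) ^ (n + 2) = 4 * 2 ^ n := by ring
  obtain ⟨v, rfl⟩ : ∃ v, u = 2 * v + 1 := by
    have h2 : (2 : ℤ) ∣ u ^ 2 - 1 := (dvd_pow_self 2 (by omega)).trans hu
    rcases Int.even_or_odd u with ⟨w, rfl⟩ | ⟨w, rfl⟩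
    · exfalso; obtain ⟨c, hc⟩ := h2; ring_nf at hc; omega
    · exact ⟨w, rfl⟩
  rw [hsplit] at hu hs ⊢
  have hv : (2 : ℤ) ^ n ∣ v * (v + 1) := by
    have : (4 : ℤ) * 2 ^ n ∣ 4 * (v * (v + 1)) := by convert hu using 1; ring
    exact (mul_dvd_mul_iff_left (by norm_num)).mp this
  rcases n with - | n
  · rcases Int.even_or_odd v with ⟨w, rfl⟩ | ⟨w, rfl⟩
    · exact Or.inl ⟨w, by ring⟩
    · exact Or.inr (Or.inl ⟨w + 1, by ring⟩)
  rcases Int.even_or_odd v with hev | hodd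
  · have hc : IsCoprime ((2 : ℤ) ^ (n + 1)) (v + 1) := by
      apply IsCoprime.pow_left
      obtain ⟨w, hw⟩ := hev
      exact ⟨-w, 1, by rw [hw]; ring⟩
    obtain ⟨e, he⟩ := hc.dvd_of_dvd_mul_right hv
    rcases Int.even_or_odd e with ⟨f, hf⟩ | ⟨f, hf⟩
    · exact Or.inl ⟨f, by rw [he, hf]; ring⟩
    · refine Or.inr (Or.inr ?_)
      have h4 : (4 : ℤ) * 2 ^ (n + 1) ∣ 2 * 2 ^ (n + 1) * (s * e) := by
        convert hs using 1; rw [he]; ring
      have h2 : (2 : ℤ) ∣ s * e := by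
        obtain ⟨c, hc⟩ := h4
        refine ⟨c, ?_⟩
        have : (2 * 2 ^ (n + 1) : ℤ) * (s * e) = (2 * 2 ^ (n + 1)) * (2 * c) := by rw [hc]; ring
        exact mul_left_cancel₀ (by positivity) this
      have hce : IsCoprime (2 : ℤ) e := ⟨-f, 1, by rw [hf]; ring⟩
      obtain ⟨s', hs'⟩ := hce.dvd_of_dvd_mul_right h2
      have hco : IsCoprime ((2 : ℤ) * 2 ^ (n + 1)) (v + 1) := by
        obtain ⟨w, hw⟩ := hev
        exact IsCoprime.mul_left ⟨-w, 1, by rw [hw]; ring⟩ hc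
      obtain ⟨A, B, hAB⟩ := hco
      exact ⟨-s' * B, ⟨s' * A, by rw [hs']; linear_combination (-2 * s') * hAB⟩⟩
  · obtain ⟨w, hw⟩ := hodd
    have hc : IsCoprime ((2 : ℤ) ^ (n + 1)) v := by
      apply IsCoprime.pow_left
      exact ⟨-w, 1, by rw [hw]; ring⟩
    obtain ⟨e, he⟩ := hc.dvd_of_dvd_mul_left hv
    rcases Int.even_or_odd e with ⟨f, hf⟩ | ⟨f, hf⟩
    · refine Or.inr (Or.inl ⟨f, ?_⟩)
      linear_combination 2 * he + 2 * 2 ^ (n + 1) * hf
    · refine Or.inr (Or.inr ?_)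
      have h4 : (4 : ℤ) * 2 ^ (n + 1) ∣ 2 * (s * v) := by convert hs using 1; ring
      have h5 : (2 : ℤ) * 2 ^ (n + 1) ∣ s * v := by
        obtain ⟨c, hc'⟩ := h4
        exact ⟨c, by linarith⟩
      have hcv : IsCoprime ((2 : ℤ) * 2 ^ (n + 1)) v :=
        IsCoprime.mul_left ⟨-w, 1, by rw [hw]; ring⟩ hc
      obtain ⟨s', hs'⟩ := hcv.dvd_of_dvd_mul_right h5
      refine ⟨-s', ⟨-(s' * f), ?_⟩⟩
      linear_combination hs' - 2 * s' * he - 2 * s' * 2 ^ (n + 1) * hf

/-- A nonabelian finite 2-group with a unique involution has a cyclic subgroup `⟨x⟩` of index 2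
such that every outside element inverts `x` and squares to the involution. -/
theorem exists_cyclic_index_two_of_unique_involution {S : Type*} [Group S] [Finite S]
    (hS : IsPGroup 2 S) (hna : ¬ IsMulCommutative S) (huniq : ∃! z : S, orderOf z = 2) :
    ∃ x : S, (∀ g h : S, g ∉ Subgroup.zpowers x → h ∉ Subgroup.zpowers x → g * h ∈ Subgroup.zpowers x) ∧
      ∀ g : S, g ∉ Subgroup.zpowers x → g * x * g⁻¹ = x⁻¹ ∧ orderOf (g ^ 2) = 2 := by
  obtain ⟨z, hz, hzu⟩ := huniq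
  obtain ⟨A, hAn, hAc, hAmax⟩ : ∃ A : Subgroup S, A.Normal ∧ IsMulCommutative A ∧
      ∀ B : Subgroup S, B.Normal → IsMulCommutative B → A ≤ B → B = A := by
    obtain ⟨A, hA, hmax⟩ := Set.Finite.exists_maximal
      (s := {A : Subgroup S | A.Normal ∧ IsMulCommutative A}) (Set.toFinite _)
      ⟨⊥, inferInstance, ⟨⟨fun a b => Subsingleton.elim _ _⟩⟩⟩
    exact ⟨A, hA.1, hA.2, fun B hB hB' hle => le_antisymm (hmax ⟨hB, hB'⟩ hle) hle⟩
  have hAC := Cfsg.Agent.H24.centralizer_eq_of_maximal_normal_abelian hS hAc hAmax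
  have hAcyc : IsCyclic ↥A := by
    refine Cfsg.Agent.H21.isCyclic_of_comm_unique (p := 2) (hS.to_subgroup A) fun H L hH hL => ?_
    have key : ∀ H : Subgroup ↥A, Nat.card ↥H = 2 → ∀ a ∈ H, a = 1 ∨ (a : S) = z := by
      intro H hH a ha
      by_cases h1 : a = 1
      · exact Or.inl h1
      refine Or.inr (hzu _ ?_)
      show orderOf (a : S) = 2
      rw [Subgroup.orderOf_coe]
      have hd : orderOf a ∣ 2 := by
        rw [← Subgroup.orderOf_mk a ha, ← hH]; exact orderOf_dvd_natCard _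
      exact ((Nat.dvd_prime Nat.prime_two).mp hd).resolve_left fun h => h1 (orderOf_eq_one_iff.mp h)
    obtain ⟨a, ha⟩ : ∃ a : ↥H, a ≠ 1 := by
      have : Nontrivial ↥H := by rw [← Finite.one_lt_card_iff_nontrivial, hH]; norm_num
      exact exists_ne 1
    obtain ⟨b, hb⟩ : ∃ b : ↥L, b ≠ 1 := by
      have : Nontrivial ↥L := by rw [← Finite.one_lt_card_iff_nontrivial, hL]; norm_num
      exact exists_ne 1
    have ea : ((a : ↥A) : S) = z := (key H hH a a.2).resolve_left fun h => ha (Subtype.ext h)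
    have eb : ((b : ↥A) : S) = z := (key L hL b b.2).resolve_left fun h => hb (Subtype.ext h)
    refine SetLike.ext fun c => ⟨fun hc => ?_, fun hc => ?_⟩
    · rcases key H hH c hc with rfl | h
      · exact one_mem L
      · rw [show c = (b : ↥A) from Subtype.ext (h.trans eb.symm)]; exact b.2
    · rcases key L hL c hc with rfl | h
      · exact one_mem H
      · rw [show c = (a : ↥A) from Subtype.ext (h.trans ea.symm)]; exact a.2
  obtain ⟨x, hxA⟩ : ∃ x : S, A = Subgroup.zpowers x := (Subgroup.isCyclic_iff_exists_zpowers_eq_top A).mp hAcyc |>.imp fun x h => h.symm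
  subst hxA
  obtain ⟨m, hm⟩ : ∃ m : ℕ, orderOf x = 2 ^ m := IsPGroup.iff_orderOf.mp hS x
  have hconj : ∀ g : S, ∃ u : ℤ, g * x * g⁻¹ = x ^ u := fun g => by
    obtain ⟨u, hu⟩ := hAn.conj_mem x (Subgroup.mem_zpowers x) g
    exact ⟨u, hu.symm⟩
  have hdvd : ∀ k l : ℤ, x ^ k = x ^ l ↔ (2 : ℤ) ^ m ∣ k - l := fun k l => by
    rw [eq_comm, zpow_eq_zpow_iff_modEq, Int.modEq_iff_dvd, hm]; push_cast; rfl
  have hcent : ∀ g : S, g * x * g⁻¹ = x → g ∈ Subgroup.zpowers x := fun g hg => by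
    rw [← hAC, Subgroup.mem_centralizer_iff]
    rintro _ ⟨k, rfl⟩
    exact (Commute.zpow_left (mul_inv_eq_iff_eq_mul.mp hg : g * x = x * g).symm k).eq
  have hm2 : 2 ≤ m := by
    by_contra hlt
    refine hna ⟨⟨fun a b => ?_⟩⟩
    have hall : ∀ g : S, g ∈ Subgroup.zpowers x := fun g => by
      obtain ⟨u, hu⟩ := hconj g
      refine hcent g ?_
      have h1 : (g * x * g⁻¹) = 1 ↔ x = 1 := conj_eq_one_iff
      rcases (show m = 0 ∨ m = 1 by omega) with rfl | rfl
      · rw [pow_zero, orderOf_eq_one_iff] at hm; simp [hm]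
      · rw [hu]; nth_rw 2 [← zpow_one x]
        rw [hdvd]
        rcases Int.even_or_odd u with ⟨w, rfl⟩ | ⟨w, rfl⟩
        · exfalso
          have : x ^ (w + w) = 1 := by
            rw [← zpow_zero x, hdvd]; exact ⟨w, by ring⟩
          rw [← hu] at this
          rw [h1.mp this, orderOf_one] at hm
          norm_num at hm
        · exact ⟨w, by ring⟩
    obtain ⟨i, rfl⟩ := hall a
    obtain ⟨j, rfl⟩ := hall b
    exact (Commute.zpow_zpow_self x i j).eq
  have hpow : ∀ g : S, ∀ u : ℤ, g * x * g⁻¹ = x ^ u → ∀ k : ℤ, g * x ^ k * g⁻¹ = x ^ (u * k) := by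
    intro g u hu k
    rw [zpow_mul, ← hu, conj_zpow]
  have hsq : ∀ g : S, g ∉ Subgroup.zpowers x → g ^ 2 ∈ Subgroup.zpowers x →
      g * x * g⁻¹ = x⁻¹ ∧ orderOf (g ^ 2) = 2 := by
    intro g hg ⟨s, hs⟩
    change x ^ s = g ^ 2 at hs
    obtain ⟨u, hu⟩ := hconj g
    have hu2 : (2 : ℤ) ^ m ∣ u ^ 2 - 1 := by
      rw [← hdvd, zpow_one]
      have h1 : g ^ 2 * x * (g ^ 2)⁻¹ = x ^ (u ^ 2) := by
        rw [sq u, ← hpow g u hu u, ← hu, sq]; group
      rw [← h1, ← hs]; group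
    have hsu : (2 : ℤ) ^ m ∣ s * (u - 1) := by
      have h1 := hpow g u hu s
      rw [hs, show g * g ^ 2 * g⁻¹ = g ^ 2 by rw [sq]; group, ← hs, hdvd] at h1
      have := h1.neg_right
      rw [show s * (u - 1) = -(s - u * s) by ring]; exact this
    have hni : ∀ a : ℤ, ¬ (2 : ℤ) ^ m ∣ s + a * (u + 1) := by
      intro a ha
      have h1 : (g * x ^ a) * (g * x ^ a) = 1 := by
        calc (g * x ^ a) * (g * x ^ a) = (g * x ^ a * g⁻¹) * g ^ 2 * x ^ a := by rw [sq]; group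
          _ = x ^ (u * a + s + a) := by rw [hpow g u hu a, ← hs, ← zpow_add, ← zpow_add]
          _ = x ^ (0 : ℤ) := by rw [hdvd]; convert ha using 1; ring
          _ = 1 := zpow_zero x
      have h2 : g * x ^ a ≠ 1 := fun h => hg (by
        rw [mul_eq_one_iff_eq_inv.mp h, ← zpow_neg]; exact Subgroup.zpow_mem_zpowers x _)
      have h3 : g * x ^ a = z := hzu _ (orderOf_eq_prime (by rw [sq]; exact h1) h2)
      -- the involution is a power of `x`
      have hzA : z ∈ Subgroup.zpowers x := by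
        have hy : orderOf (x ^ 2 ^ (m - 1)) = 2 := by
          rw [orderOf_pow, hm, Nat.gcd_eq_right (pow_dvd_pow 2 (by omega)),
            Nat.pow_div (by omega) (by norm_num), show m - (m - 1) = 1 by omega, pow_one]
        exact hzu _ hy ▸ Subgroup.pow_mem _ (Subgroup.mem_zpowers x) _
      refine hg ?_
      rw [show g = z * (x ^ a)⁻¹ by rw [← h3]; group]
      exact mul_mem hzA (inv_mem (Subgroup.zpow_mem_zpowers x a))
    rcases unit_square_one_cases hm2 u s hu2 hsu with h | h | ⟨a, ha⟩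
    · refine absurd (hcent g ?_) hg
      rw [hu]; conv_rhs => rw [← zpow_one x]
      rwa [hdvd]
    · have hinv : g * x * g⁻¹ = x⁻¹ := by
        rw [hu, ← zpow_neg_one, hdvd]; convert h using 1; ring
      refine ⟨hinv, orderOf_eq_prime ?_ fun h1 => ?_⟩
      · rw [← hs, ← zpow_natCast, ← zpow_mul, ← zpow_zero x, hdvd]
        have h3 : (2 : ℤ) ^ m ∣ s * (u + 1) := dvd_mul_of_dvd_right h s
        rw [show s * ((2 : ℕ) : ℤ) - 0 = s * (u + 1) - s * (u - 1) by push_cast; ring]; exact dvd_sub h3 hsu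
      · refine hni 0 ?_
        rw [← hs, ← zpow_zero x, hdvd] at h1
        convert h1 using 1; ring
    · exact absurd ha (hni a)
  have hall : ∀ g : S, g ^ 2 ∈ Subgroup.zpowers x := by
    intro g
    by_contra hg
    have hex : ∃ k : ℕ, g ^ 2 ^ k ∈ Subgroup.zpowers x := by
      obtain ⟨k, hk⟩ := hS g
      exact ⟨k, by rw [hk]; exact one_mem _⟩
    classical
    have hk := Nat.find_spec hex
    have hk2 : 2 ≤ Nat.find hex := by
      by_contra hlt
      rcases (show Nat.find hex = 0 ∨ Nat.find hex = 1 by omega) with h | h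
      · rw [h, pow_zero, pow_one] at hk; exact hg (Subgroup.pow_mem _ hk 2)
      · rw [h, pow_one] at hk; exact hg hk
    obtain ⟨j, hj⟩ : ∃ j, Nat.find hex = j + 2 := ⟨Nat.find hex - 2, by omega⟩
    rw [hj] at hk
    have hj1 := Nat.find_min hex (show j + 1 < Nat.find hex by omega)
    set h := g ^ 2 ^ j with hh
    have e1 : g ^ 2 ^ (j + 1) = h ^ 2 := by rw [hh, ← pow_mul, pow_succ]
    have e2 : g ^ 2 ^ (j + 2) = (h ^ 2) ^ 2 := by rw [← e1, ← pow_mul, ← pow_succ]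
    rw [e1] at hj1
    rw [e2] at hk
    obtain ⟨hinv, -⟩ := hsq _ hj1 hk
    obtain ⟨u, hu⟩ := hconj h
    have h2 : h ^ 2 * x * (h ^ 2)⁻¹ = x ^ (u * u) := by
      rw [← hpow h u hu u, ← hu, sq]; group
    rw [hinv, ← zpow_neg_one, eq_comm, hdvd] at h2
    have h4 : (4 : ℤ) ∣ u * u - -1 := by
      refine dvd_trans ?_ h2
      rw [show m = 2 + (m - 2) by omega, pow_add]; exact Dvd.intro _ rfl
    rcases Int.even_or_odd u with ⟨w, rfl⟩ | ⟨w, rfl⟩
    · rw [show (w + w) * (w + w) - -1 = 4 * (w * w) + 1 by ring] at h4; omega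
    · rw [show (2 * w + 1) * (2 * w + 1) - -1 = 4 * (w * w + w) + 2 by ring] at h4; omega
  refine ⟨x, fun g h hg hh => hcent _ ?_, fun g hg => hsq g hg (hall g)⟩
  obtain ⟨hgi, -⟩ := hsq g hg (hall g)
  obtain ⟨hhi, -⟩ := hsq h hh (hall h)
  calc g * h * x * (g * h)⁻¹ = g * (h * x * h⁻¹) * g⁻¹ := by group
    _ = (g * x * g⁻¹)⁻¹ := by rw [hhi]; group
    _ = x := by rw [hgi, inv_inv]

end Cfsg.Agent.H76
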